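import Cfsg.Agent.H264.HT.RowE6S
import Cfsg.Agent.H248.HT.Glue
import Cfsg.Agent.H248.HT.F4
import Cfsg.Agent.H996.PQ.RowE6X
import Cfsg.Agent.H631.HT.MemOne

/-!
# S4933, the field `e6` of `OddRows`: `E₆(q)`, `p` odd, `p ∤ q`, `P` non-abelian (helper264)

* `ud_five` : `5 ∣ q - 1`, degree `q² Φ₄ Φ₅ Φ₈ Φ₁₂` (node `0`), `v₅ = 1`;
* `ud_three` : `3 ∣ q + 1`, degree `q⁶ Φ₃³ Φ₆² Φ₉ Φ₁₂` (nodes `0`, `2`), `v₃ = 2`;
* `e6` : the field.
-/

set_option autoImplicit false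
set_option linter.unusedSectionVars false

namespace Cfsg.Agent.H264.HT

open Cfsg Cfsg.Agent.H316.HT Cfsg.Agent.H892.HT Cfsg.Agent.H317.PQ Cfsg.Agent.H248.HT
open Cfsg.Agent.H996.Eight.Cert (evZ evZ_cast val val_spec)
open CoxeterSystem Cfsg.Agent.ChevalleyStructure.CoxeterGeom Cfsg.Agent.Tits.Roots Cfsg.Agent.Tits.Core
  Cfsg.Agent.Nodes.Reps Cfsg.Agent.Nodes.BNOf Cfsg.Agent.Nodes.Bruhat Cfsg.Agent.Nodes.LeviDec
open Cfsg.Lie Cfsg.Agent.ChevalleyStructure Cfsg.Agent.ChevalleyStructure.CoxeterGeomTypes Cfsg.Agent.Nodes.RGDChev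
  Cfsg.Agent.H35.ExcIdx Cfsg.Agent.H116.StAut Cfsg.Agent.H996.PQ

universe u

/-- the diagram `E₆` has no symmetry of order a power of an odd prime -/
theorem e6_odd {p : ℕ} (hp : Odd p) (σ : Equiv.Perm (Fin 6))
    (hσ : ∀ i j, CoxeterMatrix.E₆ (σ i) (σ j) = CoxeterMatrix.E₆ i j) (hk : ∃ k, σ ^ p ^ k = 1) : σ = 1 := by
  have h2 := sq_E6 σ hσ
  obtain ⟨k, hk⟩ := hk
  obtain ⟨a, ha⟩ := hp.pow (n := k)
  rw [ha, pow_succ, pow_mul, h2, one_pow, one_mul] at hk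
  exact hk

/-- **`E₆(q)`, `5 ∣ q - 1`.** -/
theorem ud_five (K : Type u) [Field K] [Fintype K] [Finite ↥(chevE6.group K)] (h5 : Fintype.card K % 5 = 1) :
    UD 5 1 ↥(chevE6.group K) := by
  have : Fintype ↥(chevE6.group K) := Fintype.ofFinite _
  have hx : 2 ≤ Fintype.card K := Fintype.one_lt_card
  have : Fact (Nat.Prime 5) := ⟨Nat.prime_five⟩
  refine ud_split hpE6 K FullE6a.hA FullE6a.full (by decide +kernel) Nat.prime_five
    (fun σ hσ hk => e6_odd (by decide) σ hσ hk) (i := 2) (by decide +kernel) ?_ ?_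
  · left
    intro χ hχ
    obtain ⟨N, hN⟩ := Cfsg.Agent.Blocks.ExistsModular.exists_isPModular Nat.prime_five
    rw [B0_eq Nat.prime_five hN]
    rw [H674.XZ.ip_eq] at hχ
    exact H631.HT.mem_one_E6 (p := 5) (by decide) (by omega) hN _ χ hχ
  · have hd := FullE6a.deg hx 2
    have h9 : Fintype.card K % 25 < 25 := Nat.mod_lt _ (by decide)
    refine fact_of_mod Nat.prime_five (v := 1) hd (by decide +kernel) (y := ((Fintype.card K % 25 : ℕ) : ℤ)) ?_ ?_ ?_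
    · exact (Int.natCast_modEq_iff.2 (Nat.mod_modEq _ _)).symm
    · have key : ∀ y : Fin 25, (y : ℕ) % 5 = 1 → ((5 ^ 1 : ℕ) : ℤ) ∣ evZ ((y : ℕ) : ℤ) (FullE6a.pol.dn 2) := by
        decide +kernel
      exact key ⟨_, h9⟩ (by simp only; omega)
    · have key : ∀ y : Fin 25, (y : ℕ) % 5 = 1 → ¬ ((5 ^ 2 : ℕ) : ℤ) ∣ evZ ((y : ℕ) : ℤ) (FullE6a.pol.dn 2) := by
        decide +kernel
      exact key ⟨_, h9⟩ (by simp only; omega)

/-- **`E₆(q)`, `3 ∣ q + 1`.** -/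
theorem ud_three (K : Type u) [Field K] [Fintype K] [Finite ↥(chevE6.group K)] (h3 : 3 ∣ Fintype.card K + 1) :
    UD 3 2 ↥(chevE6.group K) := by
  classical
  have : Fintype ↥(chevE6.group K) := Fintype.ofFinite _
  obtain ⟨r, hr⟩ := CharP.exists K
  have : Fact r.Prime := ⟨CharP.char_is_prime K r⟩
  have := finite_W hpE6 CoxeterMatrix.E₆.toCoxeterSystem
  have R := rgd (K := K) hpE6 CoxeterMatrix.E₆.toCoxeterSystem r
  have hG := GG_eq_top hpE6 K CoxeterMatrix.E₆.toCoxeterSystem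
  have hx : 2 ≤ Fintype.card K := Fintype.one_lt_card
  have h3' : (3 : ℤ) ∣ (Fintype.card K : ℤ) + 1 := by exact_mod_cast h3
  obtain ⟨ψ, h4, h5, h6⟩ := exists_ud' R hG H423.PQ.hA_E6 H423.PQ.CoTabE6.cert hx (fun i => by
      rw [card_XX hpE6 K CoxeterMatrix.E₆.toCoxeterSystem (isRoot_sr _ _ i),
        show H423.PQ.CoTabE6.cert.e i = 1 from by fin_cases i <;> rfl, pow_one, Nat.card_eq_fintype_card])
    H423.PQ.CoTabE6.sl Nat.prime_three (by
      show (3 : ℤ) ∣ evZ _ [1, 1]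
      simp only [evZ]
      have e : (1 : ℤ) + (Fintype.card K : ℤ) * (1 + (Fintype.card K : ℤ) * 0) = (Fintype.card K : ℤ) + 1 := by ring
      rw [e]
      exact h3')
  have hv : vd 3 (ψ : ↥(chevE6.group K) → ℂ) = 2 := by
    obtain ⟨F, hF, hF3⟩ := deg_two _ h3'
    have h7 := (H423.PQ.degZ H423.PQ.CoTabE6.cert hx).1
    rw [H423.PQ.evdn_E6, hF, show H423.PQ.CoTabE6.cert.den = 1 from rfl, Nat.cast_one, one_mul] at h7
    rw [vd, h6]
    exact fac_two h7 hF3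
  have hip : H674.XZ.ip (H145.BR.permC ↥(chevE6.group K) (↥(chevE6.group K) ⧸
      PJ CoxeterMatrix.E₆.toCoxeterSystem hpE6.isCartan (TT chevE6 K) (XX chevE6 6 K)
        {i | H423.PQ.CoTabE6.enc.w₀ i = 0})) (ψ : ↥(chevE6.group K) → ℂ) = 1 := by
    rw [H674.XZ.ip_eq]
    exact H326.HT.ip_one h5
  refine ⟨_, ψ, hip, h4, hv, ?_, fun s hs => self_norm R hG _ s hs, fun α hα => ?_⟩
  · refine exists_ne (χ' := ⟨1, Characters.Core.isIrr_one⟩) rfl fun he => ?_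
    rw [he, vd] at hv
    have h9 := Blocks.Basic.irr_one_eq_charDegree (Characters.Core.isIrr_one (G := ↥(chevE6.group K)))
    have h10 : charDegree (1 : ↥(chevE6.group K) → ℂ) = 1 := by
      have h11 : ((charDegree (1 : ↥(chevE6.group K) → ℂ) : ℕ) : ℂ) = 1 := h9.symm
      exact_mod_cast h11
    rw [h10] at hv
    simp at hv
  · exact inv_full R hG _ (by rw [hip]; exact one_ne_zero) (fun σ hσ _ hk => e6_odd (p := 3) (by decide) σ hσ hk) α hα

/-- **The field `e6` of `OddRows`.** -/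
theorem e6 (p : ℕ) [Fact p.Prime] (F : Type) [Field F] [Fintype F] [IsSimpleGroup (Lie.chevE6.group F)] (h2 : p ≠ 2)
    (hq : ¬ p ∣ Fintype.card F) (h : ¬ Ab p (Lie.chevE6.group F)) : Row p ↥(Lie.chevE6.group F) := by
  refine e6_of (fun F _ _ _ h5 => ?_) (fun F _ _ _ h3 h => ?_) p F h2 hq h
  · have := H996.PQ.finite_group chevE6 F
    have : Fact (Nat.Prime 5) := ⟨Nat.prime_five⟩
    exact row_of_ud_one (ud_five F h5)
  · have := H996.PQ.finite_group chevE6 F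
    refine row_of_ud (v := 2) (by decide) (ud_three F h3) fun A _ _ N _ hN P a ha hcd => ?_
    obtain ⟨e⟩ := hN
    have h6 : ((Fintype.card F : ℕ) : ZMod 3) = 2 := by
      have h7 : ((Fintype.card F : ℕ) : ZMod 3) = ((2 : ℕ) : ZMod 3) := by
        rw [ZMod.natCast_eq_natCast_iff']
        omega
      exact h7
    exact H421.HT.two_le Nat.prime_three (H421.HT.tp_E6 h6) N e P hcd

end Cfsg.Agent.H264.HT
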