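import Cfsg.Agent.H264.HT.ESixC
import Cfsg.Agent.H726.HT.Ab
import Cfsg.Agent.H584.HT.DDExc
import Cfsg.Agent.H421.HT.Pair

/-!
# S4933, the field `e6` of `OddRows` (helper264)
-/

set_option autoImplicit false

namespace Cfsg.Agent.H264.HT

open Cfsg Cfsg.Lie Cfsg.Agent.H316.HT Cfsg.Agent.H892.HT

/-- the assembly -/
theorem e6_of (hfive : ∀ (F : Type) [Field F] [Fintype F] [IsSimpleGroup (chevE6.group F)], Fintype.card F % 5 = 1 →
      Row 5 ↥(chevE6.group F))
    (hthree : ∀ (F : Type) [Field F] [Fintype F] [IsSimpleGroup (chevE6.group F)], 3 ∣ Fintype.card F + 1 →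
      (∀ (A : Type) [Group A] [Finite A] (N : Subgroup A) [N.Normal], Nonempty (N ≃* ↥(chevE6.group F)) →
        Subgroup.centralizer (N : Set A) = ⊥ → ∀ (P : Sylow 3 A) (a : ℕ), 0 < a → CD 3 a (P : Subgroup A) → 2 ≤ a) →
      Row 3 ↥(chevE6.group F))
    (p : ℕ) [Fact p.Prime] (F : Type) [Field F] [Fintype F] [IsSimpleGroup (Lie.chevE6.group F)] (h2 : p ≠ 2)
    (hq : ¬ p ∣ Fintype.card F) (h : ¬ Ab p (Lie.chevE6.group F)) : Row p ↥(Lie.chevE6.group F) := by
  rcases H726.HT.e6_cases h2 hq h with rfl | ⟨rfl, h5⟩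
  · by_cases h3 : 3 ∣ Fintype.card F - 1
    · exact H584.HT.row3_e6 F h3
    · have h4 : 0 < Fintype.card F := Fintype.card_pos
      have h5 : 3 ∣ Fintype.card F + 1 := by omega
      have h6 : ((Fintype.card F : ℕ) : ZMod 3) = 2 := by
        have h7 : ((Fintype.card F : ℕ) : ZMod 3) = ((2 : ℕ) : ZMod 3) := by
          rw [ZMod.natCast_eq_natCast_iff']
          omega
        exact h7
      refine hthree F h5 fun A _ _ N _ hN _ P a _ hcd => ?_
      obtain ⟨e⟩ := hN
      exact H421.HT.two_le Nat.prime_three (H421.HT.tp_E6 h6) N e P hcd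
  · exact hfive F h5

end Cfsg.Agent.H264.HT
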